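import Mathlib

/-!
# Finite presentation of localized modules: base change, descent, restriction of scalars (helper7)
-/

set_option linter.style.haveILetI false
set_option linter.unusedVariables false
set_option linter.unusedSectionVars false
set_option autoImplicit false
set_option backward.isDefEq.respectTransparency.types false
set_option synthInstance.maxHeartbeats 400000
set_option maxHeartbeats 1600000
universe u

namespace Groth.Agent.Helper7.ElemDev

open TensorProduct

/-- the localization of `M` at `T` is finitely presented over the localization of `A` -/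
abbrev FPAt (A : Type u) [CommRing A] (T : Submonoid A) (M : Type u) [AddCommGroup M]
    [Module A M] : Prop :=
  Module.FinitePresentation (Localization T) (LocalizedModule T M)

section Descent

variable {A : Type u} [CommRing A] (B : Type u) [CommRing B] [Algebra A B]
  (M : Type u) [AddCommGroup M] [Module A M]

/-- faithfully flat descent of finite presentation of modules -/
theorem fp_of_fp_tensor_ff [Module.FaithfullyFlat A B]
    [Module.FinitePresentation B (B ⊗[A] M)] : Module.FinitePresentation A M := by
  haveI : Module.Finite A M := Module.Finite.of_finite_tensorProduct_of_faithfullyFlat B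
  obtain ⟨n, f, hf⟩ := Module.Finite.exists_fin' A M
  apply Module.finitePresentation_of_surjective f hf
  have hex : Function.Exact ((LinearMap.ker f).subtype.baseChange B) (f.baseChange B) :=
    lTensor_exact B f.exact_subtype_ker_map hf
  have hinj : Function.Injective ((LinearMap.ker f).subtype.baseChange B) :=
    Module.Flat.lTensor_preserves_injective_linearMap (M := B) (LinearMap.ker f).subtype
      (LinearMap.ker f).injective_subtype
  have hker : (LinearMap.ker (f.baseChange B)).FG :=
    Module.FinitePresentation.fg_ker (f.baseChange B) (LinearMap.lTensor_surjective B hf)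
  rw [LinearMap.exact_iff] at hex
  rw [hex] at hker
  haveI : Module.Finite B (LinearMap.range ((LinearMap.ker f).subtype.baseChange B)) :=
    Module.Finite.iff_fg.mpr hker
  haveI : Module.Finite B (B ⊗[A] (LinearMap.ker f)) :=
    Module.Finite.equiv (LinearEquiv.ofInjective _ hinj).symm
  haveI : Module.Finite A (LinearMap.ker f) :=
    Module.Finite.of_finite_tensorProduct_of_faithfullyFlat B
  exact Module.Finite.iff_fg.mp this

variable {B M}
variable {N' : Type u} [AddCommGroup N'] [Module B N'] [Module A N'] [IsScalarTower A B N']

theorem fp_of_isBaseChange_ff (φ : M →ₗ[A] N') (hφ : IsBaseChange B φ)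
    [Module.FaithfullyFlat A B] [Module.FinitePresentation B N'] :
    Module.FinitePresentation A M := by
  haveI : Module.FinitePresentation B (B ⊗[A] M) :=
    Module.FinitePresentation.of_equiv hφ.equiv.symm
  exact fp_of_fp_tensor_ff B M

end Descent

section Restrict

variable {A B : Type u} [CommRing A] [CommRing B] [Algebra A B] [Module.Finite A B]
  (M : Type u) [AddCommGroup M] [Module B M] [Module A M] [IsScalarTower A B M]

/-- a module over a module-finite `A`-algebra `B` which is finitely presented over `A` is
finitely presented over `B` -/
theorem fp_of_fp_restrictScalars [Module.FinitePresentation A M] :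
    Module.FinitePresentation B M := by
  classical
  let μ : B ⊗[A] M →ₗ[B] M := LinearMap.liftBaseChange B (LinearMap.id : M →ₗ[A] M)
  have hμt : ∀ (b : B) (m : M), μ (b ⊗ₜ[A] m) = b • m := fun b m => by
    simp [μ]
  have hμ : Function.Surjective μ := fun m => ⟨(1 : B) ⊗ₜ[A] m, by rw [hμt, one_smul]⟩
  apply Module.finitePresentation_of_surjective μ hμ
  obtain ⟨sB, hsB⟩ := Module.finite_def.mp (inferInstance : Module.Finite A B)
  obtain ⟨sM, hsM⟩ := Module.finite_def.mp (inferInstance : Module.Finite A M)
  let gen : Finset (B ⊗[A] M) :=
    (sB ×ˢ sM).image (fun bm => bm.1 ⊗ₜ[A] bm.2 - (1 : B) ⊗ₜ[A] (bm.1 • bm.2))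
  refine ⟨gen, le_antisymm ?_ ?_⟩
  · rw [Submodule.span_le]
    intro x hx
    obtain ⟨⟨b, m⟩, -, rfl⟩ := Finset.mem_image.mp (Finset.mem_coe.mp hx)
    show μ (b ⊗ₜ[A] m - (1 : B) ⊗ₜ[A] (b • m)) = 0
    rw [map_sub, hμt, hμt, one_smul, sub_self]
  · have hP : ∀ (b : B) (m : M),
        b ⊗ₜ[A] m - (1 : B) ⊗ₜ[A] (b • m) ∈ Submodule.span B (gen : Set (B ⊗[A] M)) := by
      intro b m
      have hb : b ∈ Submodule.span A (sB : Set B) := by rw [hsB]; exact Submodule.mem_top
      have hm : m ∈ Submodule.span A (sM : Set M) := by rw [hsM]; exact Submodule.mem_top
      induction hb using Submodule.span_induction with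
      | mem b hbs =>
        induction hm using Submodule.span_induction with
        | mem m hms =>
          exact Submodule.subset_span (Finset.mem_coe.mpr (Finset.mem_image.mpr
            ⟨(b, m), Finset.mem_product.mpr ⟨hbs, hms⟩, rfl⟩))
        | zero => simp
        | add m m' _ _ h h' =>
          have e : b ⊗ₜ[A] (m + m') - (1 : B) ⊗ₜ[A] (b • (m + m')) =
              (b ⊗ₜ[A] m - (1 : B) ⊗ₜ[A] (b • m)) + (b ⊗ₜ[A] m' - (1 : B) ⊗ₜ[A] (b • m')) := by
            rw [TensorProduct.tmul_add, smul_add, TensorProduct.tmul_add]; abel
          rw [e]; exact add_mem h h'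
        | smul a m _ h =>
          have e : b ⊗ₜ[A] (a • m) - (1 : B) ⊗ₜ[A] (b • a • m) =
              a • (b ⊗ₜ[A] m - (1 : B) ⊗ₜ[A] (b • m)) := by
            rw [smul_comm b a m, TensorProduct.tmul_smul, TensorProduct.tmul_smul, smul_sub]
          rw [e]; exact Submodule.smul_of_tower_mem _ a h
      | zero => simp
      | add b b' _ _ h h' =>
        have e : (b + b') ⊗ₜ[A] m - (1 : B) ⊗ₜ[A] ((b + b') • m) =
            (b ⊗ₜ[A] m - (1 : B) ⊗ₜ[A] (b • m)) + (b' ⊗ₜ[A] m - (1 : B) ⊗ₜ[A] (b' • m)) := by
          rw [TensorProduct.add_tmul, add_smul, TensorProduct.tmul_add]; abel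
        rw [e]; exact add_mem h h'
      | smul a b _ h =>
        have e : (a • b) ⊗ₜ[A] m - (1 : B) ⊗ₜ[A] ((a • b) • m) =
            a • (b ⊗ₜ[A] m - (1 : B) ⊗ₜ[A] (b • m)) := by
          rw [smul_assoc a b m, TensorProduct.tmul_smul, ← TensorProduct.smul_tmul', smul_sub]
        rw [e]; exact Submodule.smul_of_tower_mem _ a h
    have claim : ∀ x : B ⊗[A] M,
        x - (1 : B) ⊗ₜ[A] (μ x) ∈ Submodule.span B (gen : Set (B ⊗[A] M)) := by
      intro x
      induction x using TensorProduct.induction_on with
      | zero => simp
      | tmul b m => rw [hμt]; exact hP b m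
      | add x y hx hy =>
        have e : x + y - (1 : B) ⊗ₜ[A] (μ (x + y)) =
            (x - (1 : B) ⊗ₜ[A] (μ x)) + (y - (1 : B) ⊗ₜ[A] (μ y)) := by
          rw [map_add, TensorProduct.tmul_add]; abel
        rw [e]; exact add_mem hx hy
    intro x hx
    have h := claim x
    rw [LinearMap.mem_ker.mp hx, TensorProduct.tmul_zero, sub_zero] at h
    exact h

end Restrict

section Loc

/-- a localization at a submonoid is a localization at any smaller submonoid whose elements
are divisible by all elements of the larger one -/
theorem isLocalization_of_dvd {B : Type u} [CommRing B] (T₀ T' : Submonoid B) (X : Type u)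
    [CommRing X] [Algebra B X] [IsLocalization T' X] (h1 : T₀ ≤ T')
    (h2 : ∀ t' ∈ T', ∃ b : B, t' * b ∈ T₀) : IsLocalization T₀ X := by
  rw [isLocalization_iff]
  refine ⟨fun t => IsLocalization.map_units X ⟨t.1, h1 t.2⟩, fun x => ?_, fun {x y} hxy => ?_⟩
  · obtain ⟨⟨b, t'⟩, h⟩ := IsLocalization.surj T' x
    obtain ⟨b', hb'⟩ := h2 t'.1 t'.2
    refine ⟨(b * b', ⟨t'.1 * b', hb'⟩), ?_⟩
    show x * algebraMap B X (t'.1 * b') = algebraMap B X (b * b')
    rw [map_mul, map_mul, ← mul_assoc]
    have h' : x * algebraMap B X t'.1 = algebraMap B X b := h
    rw [h']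
  · obtain ⟨t', ht'⟩ := IsLocalization.exists_of_eq (M := T') hxy
    obtain ⟨b', hb'⟩ := h2 t'.1 t'.2
    refine ⟨⟨t'.1 * b', hb'⟩, ?_⟩
    show t'.1 * b' * x = t'.1 * b' * y
    have ht'' : t'.1 * x = t'.1 * y := ht'
    calc t'.1 * b' * x = b' * (t'.1 * x) := by ring
      _ = b' * (t'.1 * y) := by rw [ht'']
      _ = t'.1 * b' * y := by ring

end Loc

section BC

variable {A B : Type u} [CommRing A] [CommRing B] [Algebra A B]
  {N G : Type u} [AddCommGroup N] [Module A N] [AddCommGroup G] [Module B G] [Module A G]
  [IsScalarTower A B G]

/-- finite presentation of localizations along a base change `N → G` over `A → B`; the converse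
holds when `A_T → B_{T'}` is faithfully flat -/
theorem fp_localized_bc (f : N →ₗ[A] G) (hf : IsBaseChange B f) (T : Submonoid A)
    (T' : Submonoid B)
    (hTT' : ∀ t ∈ T, IsUnit (algebraMap B (Localization T') (algebraMap A B t))) :
    (FPAt A T N → FPAt B T' G) ∧
    (Module.Flat A B → (∀ (r : Ideal A) [r.IsPrime], Disjoint (T : Set A) (r : Set A) →
        ∃ r' : Ideal B, r'.IsPrime ∧ Disjoint (T' : Set B) (r' : Set B) ∧
          r'.under A = r) →
      FPAt B T' G → FPAt A T N) := by
  letI alg : Algebra (Localization T) (Localization T') :=
    (IsLocalization.lift (M := T) (S := Localization T)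
      (g := (algebraMap B (Localization T')).comp (algebraMap A B))
      (fun t => hTT' t.1 t.2)).toAlgebra
  haveI tw : IsScalarTower A (Localization T) (Localization T') :=
    IsScalarTower.of_algebraMap_eq fun a => by
      rw [RingHom.algebraMap_toAlgebra, IsLocalization.lift_eq, RingHom.comp_apply,
        ← IsScalarTower.algebraMap_apply A B (Localization T')]
  letI : Module (Localization T) (LocalizedModule T' G) :=
    Module.compHom _ (algebraMap (Localization T) (Localization T'))
  haveI : IsScalarTower (Localization T) (Localization T') (LocalizedModule T' G) :=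
    IsScalarTower.of_algebraMap_smul fun a x => rfl
  haveI : IsScalarTower A (Localization T) (LocalizedModule T' G) :=
    IsScalarTower.of_algebraMap_smul fun s x => by
      show algebraMap (Localization T) (Localization T')
        (algebraMap A (Localization T) s) • x = s • x
      rw [← IsScalarTower.algebraMap_apply A (Localization T) (Localization T'),
        algebraMap_smul]
  have hmkN : IsBaseChange (Localization T) (LocalizedModule.mkLinearMap T N) :=
    LocalizedModule.isBaseChange T N
  have hmkG : IsBaseChange (Localization T') (LocalizedModule.mkLinearMap T' G) :=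
    LocalizedModule.isBaseChange T' G
  have hcomp : IsBaseChange (Localization T')
      (((LocalizedModule.mkLinearMap T' G).restrictScalars A).comp f) :=
    IsBaseChange.comp hf hmkG
  let φ : LocalizedModule T N →ₗ[Localization T] LocalizedModule T' G :=
    hmkN.lift (((LocalizedModule.mkLinearMap T' G).restrictScalars A).comp f)
  have hφ : IsBaseChange (Localization T') φ := by
    apply IsBaseChange.of_comp hmkN
    have h1 : (φ.restrictScalars A).comp (LocalizedModule.mkLinearMap T N) =
        ((LocalizedModule.mkLinearMap T' G).restrictScalars A).comp f :=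
      hmkN.lift_comp _
    rw [h1]
    exact hcomp
  refine ⟨fun h => ?_, fun hflat hsurj h => ?_⟩
  · haveI : Module.FinitePresentation (Localization T) (LocalizedModule T N) := h
    exact FinitePresentation.of_isBaseChange φ hφ
  · haveI := hflat
    haveI : Module.Flat A (Localization T') := Module.Flat.trans A B (Localization T')
    haveI : Module.Flat (Localization T) (Localization T') :=
      (Module.flat_iff_of_isLocalization (Localization T) T (Localization T')).mpr inferInstance
    haveI : Module.FaithfullyFlat (Localization T) (Localization T') := by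
      apply Module.FaithfullyFlat.of_comap_surjective
      intro P
      obtain ⟨hPprime, hPdisj⟩ :=
        (IsLocalization.isPrime_iff_isPrime_disjoint T (Localization T) P.asIdeal).mp P.isPrime
      haveI := hPprime
      obtain ⟨r', hr'prime, hr'disj, hr'⟩ := hsurj (P.asIdeal.under A) hPdisj
      have hP'prime : (r'.map (algebraMap B (Localization T'))).IsPrime :=
        IsLocalization.isPrime_of_isPrime_disjoint T' (Localization T') r' hr'prime hr'disj
      refine ⟨⟨r'.map (algebraMap B (Localization T')), hP'prime⟩, ?_⟩
      apply PrimeSpectrum.ext
      show (r'.map (algebraMap B (Localization T'))).comap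
        (algebraMap (Localization T) (Localization T')) = P.asIdeal
      have h1 : (((r'.map (algebraMap B (Localization T'))).comap
          (algebraMap (Localization T) (Localization T'))).under A) = P.asIdeal.under A := by
        show ((r'.map (algebraMap B (Localization T'))).comap
          (algebraMap (Localization T) (Localization T'))).comap (algebraMap A (Localization T))
            = P.asIdeal.under A
        rw [Ideal.comap_comap, ← IsScalarTower.algebraMap_eq A (Localization T) (Localization T'),
          IsScalarTower.algebraMap_eq A B (Localization T'), ← Ideal.comap_comap]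
        have h2 : (r'.map (algebraMap B (Localization T'))).comap (algebraMap B (Localization T'))
            = r' := IsLocalization.under_map_of_isPrime_disjoint T' (Localization T') hr'prime hr'disj
        rw [h2]
        exact hr'
      rw [← IsLocalization.map_under T (Localization T)
        ((r'.map (algebraMap B (Localization T'))).comap
          (algebraMap (Localization T) (Localization T'))), h1,
        IsLocalization.map_under T (Localization T)]
    haveI : Module.FinitePresentation (Localization T') (LocalizedModule T' G) := h
    exact fp_of_isBaseChange_ff φ hφ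

end BC

section LC

variable {A B : Type u} [CommRing A] [CommRing B] [Algebra A B] [Module.FinitePresentation A B]
  (M : Type u) [AddCommGroup M] [Module B M] [Module A M] [IsScalarTower A B M]

/-- finite presentation of a localized `B`-module over the localization of `B` or over the
localization of `A`, for an `A`-algebra `B` which is a finitely presented `A`-module -/
theorem fp_localized_iff_restrictScalars (T : Submonoid A) (T' : Submonoid B)
    (H1 : ∀ t ∈ T, algebraMap A B t ∈ T')
    (H2 : ∀ t' ∈ T', ∃ b : B, ∃ t ∈ T, t' * b = algebraMap A B t) :
    FPAt B T' M ↔ FPAt A T M := by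
  have hTT' : ∀ t ∈ T, IsUnit (algebraMap B (Localization T') (algebraMap A B t)) :=
    fun t ht => IsLocalization.map_units (Localization T') ⟨algebraMap A B t, H1 t ht⟩
  letI alg : Algebra (Localization T) (Localization T') :=
    (IsLocalization.lift (M := T) (S := Localization T)
      (g := (algebraMap B (Localization T')).comp (algebraMap A B))
      (fun t => hTT' t.1 t.2)).toAlgebra
  haveI tw : IsScalarTower A (Localization T) (Localization T') :=
    IsScalarTower.of_algebraMap_eq fun a => by
      rw [RingHom.algebraMap_toAlgebra, IsLocalization.lift_eq, RingHom.comp_apply,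
        ← IsScalarTower.algebraMap_apply A B (Localization T')]
  letI : Module (Localization T) (LocalizedModule T' M) :=
    Module.compHom _ (algebraMap (Localization T) (Localization T'))
  haveI : IsScalarTower (Localization T) (Localization T') (LocalizedModule T' M) :=
    IsScalarTower.of_algebraMap_smul fun a x => rfl
  haveI : IsScalarTower A (Localization T) (LocalizedModule T' M) :=
    IsScalarTower.of_algebraMap_smul fun s x => by
      show algebraMap (Localization T) (Localization T')
        (algebraMap A (Localization T) s) • x = s • x
      rw [← IsScalarTower.algebraMap_apply A (Localization T) (Localization T'),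
        algebraMap_smul]
  haveI hlocB : IsLocalization (Algebra.algebraMapSubmonoid B T) (Localization T') :=
    isLocalization_of_dvd (Algebra.algebraMapSubmonoid B T) T' (Localization T')
      (by
        rintro _ ⟨t, ht, rfl⟩
        exact H1 t ht)
      (by
        intro t' ht'
        obtain ⟨b, t, ht, hb⟩ := H2 t' ht'
        exact ⟨b, hb ▸ Algebra.mem_algebraMapSubmonoid_of_mem ⟨t, ht⟩⟩)
  haveI hlmB : IsLocalizedModule T (IsScalarTower.toAlgHom A B (Localization T')).toLinearMap :=
    (isLocalizedModule_iff_isLocalization (S := T) (A := B) (Aₛ := Localization T')).mpr hlocB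
  haveI fpB : Module.FinitePresentation (Localization T) (Localization T') :=
    FinitePresentation.of_isBaseChange _
      (IsLocalizedModule.isBaseChange T (Localization T)
        (IsScalarTower.toAlgHom A B (Localization T')).toLinearMap)
  let g : M →ₗ[A] LocalizedModule T' M := (LocalizedModule.mkLinearMap T' M).restrictScalars A
  haveI hg : IsLocalizedModule T g :=
    { map_units := fun t => by
        have hu := IsLocalizedModule.map_units (LocalizedModule.mkLinearMap T' M)
          ⟨algebraMap A B t.1, H1 t.1 t.2⟩
        rw [Module.End.isUnit_iff] at hu ⊢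
        have e : ⇑(algebraMap A (Module.End A (LocalizedModule T' M)) t.1) =
            ⇑(algebraMap B (Module.End B (LocalizedModule T' M)) (algebraMap A B t.1)) := by
          funext x
          rw [Module.algebraMap_end_apply, Module.algebraMap_end_apply, algebraMap_smul]
        rw [e]
        exact hu
      surj := fun y => by
        induction y using LocalizedModule.induction_on with
        | h m t' =>
          obtain ⟨b, t, ht, hb⟩ := H2 t'.1 t'.2
          refine ⟨(b • m, ⟨t, ht⟩), ?_⟩
          show t • LocalizedModule.mk m t' = LocalizedModule.mk (b • m) 1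
          rw [← algebraMap_smul B t (LocalizedModule.mk m t'), ← hb, LocalizedModule.smul'_mk,
            LocalizedModule.mk_eq]
          refine ⟨1, ?_⟩
          simp only [one_smul, mul_smul, Submonoid.smul_def]
      exists_of_eq := fun {m₁ m₂} h => by
        obtain ⟨t', ht'⟩ := IsLocalizedModule.exists_of_eq (S := T')
          (f := LocalizedModule.mkLinearMap T' M) h
        obtain ⟨b, t, ht, hb⟩ := H2 t'.1 t'.2
        refine ⟨⟨t, ht⟩, ?_⟩
        show t • m₁ = t • m₂
        have ht'' : t'.1 • m₁ = t'.1 • m₂ := ht'
        rw [← algebraMap_smul B t m₁, ← algebraMap_smul B t m₂, ← hb, mul_comm, mul_smul,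
          mul_smul, ht''] }
  let e : LocalizedModule T M ≃ₗ[Localization T] LocalizedModule T' M :=
    (IsLocalizedModule.iso T g).extendScalarsOfIsLocalization T (Localization T)
  constructor
  · intro h
    haveI : Module.FinitePresentation (Localization T') (LocalizedModule T' M) := h
    haveI : Module.FinitePresentation (Localization T) (LocalizedModule T' M) :=
      Module.FinitePresentation.trans (Localization T) (LocalizedModule T' M) (Localization T')
    exact Module.FinitePresentation.of_equiv e.symm
  · intro h
    haveI : Module.FinitePresentation (Localization T) (LocalizedModule T M) := h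
    haveI : Module.FinitePresentation (Localization T) (LocalizedModule T' M) :=
      Module.FinitePresentation.of_equiv e
    exact fp_of_fp_restrictScalars (A := Localization T) (B := Localization T')
      (LocalizedModule T' M)

end LC

section Further

variable {B : Type u} [CommRing B] (M : Type u) [AddCommGroup M] [Module B M]

/-- finite presentation passes to further localizations -/
theorem fp_localized_further (T₁ T₂ : Submonoid B) (h : ∀ t ∈ T₁, ∃ b : B, t * b ∈ T₂) :
    FPAt B T₁ M → FPAt B T₂ M := by
  have hid : IsBaseChange B (LinearMap.id : M →ₗ[B] M) :=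
    IsBaseChange.of_equiv (TensorProduct.lid B M) (fun x => by simp)
  refine (fp_localized_bc (A := B) (B := B) (LinearMap.id : M →ₗ[B] M) hid T₁ T₂ ?_).1
  intro t ht
  obtain ⟨b, hb⟩ := h t ht
  have hu : IsUnit (algebraMap B (Localization T₂) (t * b)) :=
    IsLocalization.map_units (Localization T₂) ⟨t * b, hb⟩
  rw [map_mul] at hu
  exact isUnit_of_mul_isUnit_left hu

end Further

end Groth.Agent.Helper7.ElemDev
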