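import Mathlib
import Groth.Agent.Lib.Lead.FlatLoc12

/-!
# Flatness over a base along flat base changes of an intermediate ring, and along
unramified extensions of the base (helper7)
-/

set_option linter.style.haveILetI false
set_option linter.unusedVariables false
set_option linter.unusedSectionVars false
set_option autoImplicit false
set_option backward.isDefEq.respectTransparency.types false
set_option synthInstance.maxHeartbeats 400000
set_option maxHeartbeats 1600000
universe u

namespace Groth.Agent.Helper7.ElemDev

open TensorProduct

section Tensor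

variable {R A B : Type u} [CommRing R] [CommRing A] [CommRing B] [Algebra R A] [Algebra A B]
  [Algebra R B] [IsScalarTower R A B]
  (M : Type u) [AddCommGroup M] [Module A M] [Module R M] [IsScalarTower R A M]

theorem assoc_lTensor {Q Q' : Type u} [AddCommGroup Q] [Module R Q] [AddCommGroup Q']
    [Module R Q'] (i : Q →ₗ[R] Q') (x : (B ⊗[A] M) ⊗[R] Q) :
    AlgebraTensorModule.assoc R A B B M Q' (i.lTensor (B ⊗[A] M) x) =
      (AlgebraTensorModule.lTensor A M i).lTensor B
        (AlgebraTensorModule.assoc R A B B M Q x) := by
  induction x using TensorProduct.induction_on with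
  | zero => simp
  | tmul y q =>
    induction y using TensorProduct.induction_on with
    | zero => simp
    | tmul b m => rfl
    | add y z hy hz => simp only [TensorProduct.add_tmul, map_add, hy, hz]
  | add x y hx hy => simp only [map_add, hx, hy]

/-- `B ⊗[A] M` is flat over `R` when `M` is flat over `R` and `B` is flat over `A`. -/
theorem flat_tensor_of_flat [Module.Flat A B] [Module.Flat R M] :
    Module.Flat R (B ⊗[A] M) := by
  rw [Module.Flat.iff_lTensor_preserves_injective_linearMap]
  intro Q Q' _ _ _ _ i hi
  have h1 : Function.Injective (AlgebraTensorModule.lTensor A M i) := by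
    rw [AlgebraTensorModule.coe_lTensor]
    exact Module.Flat.lTensor_preserves_injective_linearMap _ hi
  have h2 : Function.Injective ((AlgebraTensorModule.lTensor A M i).lTensor B) :=
    Module.Flat.lTensor_preserves_injective_linearMap _ h1
  intro x y hxy
  apply (AlgebraTensorModule.assoc R A B B M Q).injective
  apply h2
  rw [← assoc_lTensor, ← assoc_lTensor, hxy]

/-- descent: `M` is flat over `R` when `B ⊗[A] M` is and `B` is faithfully flat over `A`. -/
theorem flat_of_flat_tensor [Module.FaithfullyFlat A B] [Module.Flat R (B ⊗[A] M)] :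
    Module.Flat R M := by
  rw [Module.Flat.iff_lTensor_preserves_injective_linearMap]
  intro Q Q' _ _ _ _ i hi
  rw [← AlgebraTensorModule.coe_lTensor (A := A)]
  rw [← Module.FaithfullyFlat.lTensor_injective_iff_injective A B]
  intro x y hxy
  obtain ⟨x', rfl⟩ := (AlgebraTensorModule.assoc R A B B M Q).surjective x
  obtain ⟨y', rfl⟩ := (AlgebraTensorModule.assoc R A B B M Q).surjective y
  rw [← assoc_lTensor, ← assoc_lTensor] at hxy
  have h3 := Module.Flat.lTensor_preserves_injective_linearMap (M := B ⊗[A] M) i hi
    ((AlgebraTensorModule.assoc R A B B M Q').injective hxy)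
  rw [h3]

variable {M}
variable {N' : Type u} [AddCommGroup N'] [Module B N'] [Module A N'] [Module R N']
  [IsScalarTower A B N'] [IsScalarTower R B N']

theorem flat_of_isBaseChange (φ : M →ₗ[A] N') (hφ : IsBaseChange B φ) [Module.Flat A B]
    [Module.Flat R M] : Module.Flat R N' := by
  haveI : Module.Flat R (B ⊗[A] M) := flat_tensor_of_flat M
  exact Module.Flat.of_linearEquiv (hφ.equiv.restrictScalars R).symm

theorem flat_of_isBaseChange_faithfullyFlat (φ : M →ₗ[A] N') (hφ : IsBaseChange B φ)
    [Module.FaithfullyFlat A B] [Module.Flat R N'] : Module.Flat R M := by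
  haveI : Module.Flat R (B ⊗[A] M) := Module.Flat.of_linearEquiv (hφ.equiv.restrictScalars R)
  exact flat_of_flat_tensor (R := R) (A := A) (B := B) M

end Tensor

section Key

variable {R S S' : Type u} [CommRing R] [CommRing S] [CommRing S'] [Algebra R S] [Algebra S S']
  [Algebra R S'] [IsScalarTower R S S'] [Module.Flat S S']
  {N G : Type u} [AddCommGroup N] [Module S N] [Module R N] [IsScalarTower R S N]
  [AddCommGroup G] [Module S' G] [Module S G] [Module R G] [IsScalarTower S S' G]
  [IsScalarTower R S' G] [IsScalarTower R S G]

/-- flatness over `R` of the localization of `N` at `r` is equivalent to flatness over `R`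
of the localization at `r'` of a flat base change of `N`, for `r'` over `r`. -/
theorem flat_localized_iff_of_isBaseChange (f : N →ₗ[S] G) (hf : IsBaseChange S' f)
    (r : Ideal S) [r.IsPrime] (r' : Ideal S') [r'.IsPrime] [r'.LiesOver r] :
    Module.Flat R (LocalizedModule r.primeCompl N) ↔
      Module.Flat R (LocalizedModule r'.primeCompl G) := by
  letI := Localization.AtPrime.algebraOfLiesOver r r'
  haveI : IsLocalHom (algebraMap (Localization.AtPrime r) (Localization.AtPrime r')) := by
    rw [RingHom.algebraMap_toAlgebra]
    exact Localization.isLocalHom_localRingHom r r' (algebraMap S S') Ideal.LiesOver.over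
  haveI : Module.FaithfullyFlat (Localization.AtPrime r) (Localization.AtPrime r') :=
    Module.FaithfullyFlat.of_flat_of_isLocalHom
  letI : Module (Localization.AtPrime r) (LocalizedModule r'.primeCompl G) :=
    Module.compHom _ (algebraMap (Localization.AtPrime r) (Localization.AtPrime r'))
  haveI : IsScalarTower (Localization.AtPrime r) (Localization.AtPrime r')
      (LocalizedModule r'.primeCompl G) :=
    IsScalarTower.of_algebraMap_smul fun a x => rfl
  haveI : IsScalarTower S (Localization.AtPrime r) (LocalizedModule r'.primeCompl G) :=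
    IsScalarTower.of_algebraMap_smul fun s x => by
      show algebraMap (Localization.AtPrime r) (Localization.AtPrime r')
        (algebraMap S (Localization.AtPrime r) s) • x = s • x
      rw [← IsScalarTower.algebraMap_apply S (Localization.AtPrime r) (Localization.AtPrime r'),
        algebraMap_smul]
  haveI : IsScalarTower R (Localization.AtPrime r) (LocalizedModule r'.primeCompl G) :=
    IsScalarTower.of_algebraMap_smul fun a x => by
      show algebraMap (Localization.AtPrime r) (Localization.AtPrime r')
        (algebraMap R (Localization.AtPrime r) a) • x = a • x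
      rw [← IsScalarTower.algebraMap_apply R (Localization.AtPrime r) (Localization.AtPrime r'),
        algebraMap_smul]
  have hmkN : IsBaseChange (Localization.AtPrime r) (LocalizedModule.mkLinearMap r.primeCompl N) :=
    LocalizedModule.isBaseChange r.primeCompl N
  have hmkG : IsBaseChange (Localization.AtPrime r')
      (LocalizedModule.mkLinearMap r'.primeCompl G) :=
    LocalizedModule.isBaseChange r'.primeCompl G
  have hcomp : IsBaseChange (Localization.AtPrime r')
      (((LocalizedModule.mkLinearMap r'.primeCompl G).restrictScalars S).comp f) :=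
    IsBaseChange.comp hf hmkG
  let φ : LocalizedModule r.primeCompl N →ₗ[Localization.AtPrime r]
      LocalizedModule r'.primeCompl G :=
    hmkN.lift (((LocalizedModule.mkLinearMap r'.primeCompl G).restrictScalars S).comp f)
  have hφ : IsBaseChange (Localization.AtPrime r') φ := by
    apply IsBaseChange.of_comp hmkN
    have h1 : (φ.restrictScalars S).comp (LocalizedModule.mkLinearMap r.primeCompl N) =
        ((LocalizedModule.mkLinearMap r'.primeCompl G).restrictScalars S).comp f :=
      hmkN.lift_comp _
    rw [h1]
    exact hcomp
  constructor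
  · intro h
    exact flat_of_isBaseChange (R := R) φ hφ
  · intro h
    exact flat_of_isBaseChange_faithfullyFlat (R := R) φ hφ

end Key

section Unram

variable {R R' : Type u} [CommRing R] [CommRing R'] [Algebra R R']
  (M : Type u) [AddCommGroup M] [Module R M] [Module R' M] [IsScalarTower R R' M]

/-- `a ⊗ b ↦ a ⊗ b • m` -/
noncomputable def psi (m : M) : R' ⊗[R] R' →ₗ[R] R' ⊗[R] M :=
  LinearMap.lTensor R' ((LinearMap.toSpanSingleton R' M m).restrictScalars R)

theorem psi_tmul (m : M) (a b : R') : psi M m (a ⊗ₜ[R] b) = a ⊗ₜ[R] (b • m) := by
  simp [psi]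

theorem psi_add (m m' : M) (x : R' ⊗[R] R') : psi M (m + m') x = psi M m x + psi M m' x := by
  induction x using TensorProduct.induction_on with
  | zero => simp
  | tmul a b => rw [psi_tmul, psi_tmul, psi_tmul, smul_add, TensorProduct.tmul_add]
  | add x y hx hy => rw [map_add, map_add, map_add, hx, hy]; abel

theorem psi_smul_right (m : M) (r : R') (x : R' ⊗[R] R') :
    psi M (r • m) x = psi M m (x * ((1 : R') ⊗ₜ[R] r)) := by
  induction x using TensorProduct.induction_on with
  | zero => simp
  | tmul a b =>
    rw [Algebra.TensorProduct.tmul_mul_tmul, mul_one, psi_tmul, psi_tmul, mul_smul]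
  | add x y hx hy => rw [add_mul, map_add, map_add, hx, hy]

theorem psi_smul_left (m : M) (r : R') (x : R' ⊗[R] R') :
    r • psi M m x = psi M m (x * (r ⊗ₜ[R] (1 : R'))) := by
  induction x using TensorProduct.induction_on with
  | zero => simp
  | tmul a b =>
    rw [Algebra.TensorProduct.tmul_mul_tmul, mul_one, psi_tmul, psi_tmul,
      TensorProduct.smul_tmul', smul_eq_mul, mul_comm]
  | add x y hx hy => rw [add_mul, map_add, map_add, smul_add, hx, hy]

theorem lift_psi (m : M) (x : R' ⊗[R] R') :
    LinearMap.liftBaseChange R' (LinearMap.id : M →ₗ[R] M) (psi M m x) =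
      (Algebra.TensorProduct.lmul' R x) • m := by
  induction x using TensorProduct.induction_on with
  | zero => simp
  | tmul a b =>
    rw [psi_tmul, LinearMap.liftBaseChange_tmul, LinearMap.id_apply,
      Algebra.TensorProduct.lmul'_apply_tmul, mul_smul]
  | add x y hx hy => rw [map_add, map_add, map_add, add_smul, hx, hy]

/-- a module over an unramified `R`-algebra `R'` (essentially of finite type) which is flat
over `R` is flat over `R'` -/
theorem flat_of_flat_of_unramified [Algebra.FormallyUnramified R R'] [Algebra.EssFiniteType R R']
    [Module.Flat R M] : Module.Flat R' M := by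
  obtain ⟨t, ht1, ht2⟩ :=
    (Algebra.FormallyUnramified.iff_exists_tensorProduct (R := R) (S := R')).mp inferInstance
  have hcomm : ∀ r : R', t * ((1 : R') ⊗ₜ[R] r) = t * (r ⊗ₜ[R] (1 : R')) := by
    intro r
    have h := ht1 r
    rw [sub_mul, sub_eq_zero] at h
    rw [mul_comm t, mul_comm t]
    exact h
  let σ : M →ₗ[R'] R' ⊗[R] M :=
    { toFun := fun m => psi M m t
      map_add' := fun m m' => psi_add M m m' t
      map_smul' := fun r m => by
        simp only [RingHom.id_apply]
        rw [psi_smul_right, hcomm, ← psi_smul_left] }
  refine Module.Flat.of_retract σ (LinearMap.liftBaseChange R' (LinearMap.id : M →ₗ[R] M)) ?_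
  ext m
  show LinearMap.liftBaseChange R' LinearMap.id (psi M m t) = m
  rw [lift_psi, ht2, one_smul]

end Unram

section GoingUp

variable {D C : Type u} [CommRing D] [CommRing C] [Algebra D C] [Algebra.IsIntegral D C]

theorem le_of_comap_le (y : Ideal D) [y.IsPrime] (z : Ideal C)
    (uniq : ∀ (z₁ : Ideal C) [z₁.IsPrime], z₁.LiesOver y → z₁ = z) (I : Ideal C)
    (hI : I.comap (algebraMap D C) ≤ y) : I ≤ z := by
  obtain ⟨Q, hQI, hQ, hQy⟩ := Ideal.exists_ideal_over_prime_of_isIntegral y I hI
  haveI := hQ
  have h : Q = z := uniq Q ⟨hQy.symm⟩
  exact h ▸ hQI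

end GoingUp

end Groth.Agent.Helper7.ElemDev
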