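import Mathlib
import Groth.Prelude.Def_FlatCA
import Groth.Agent.Lib.Lead.FlatLoc12
import Groth.Agent.Lib.Helper7.ElemDev.Flat

/-!
# Flatness along an elementary dévissage (helper7)
-/

set_option linter.style.haveILetI false
set_option linter.unusedVariables false
set_option linter.unusedSectionVars false
set_option autoImplicit false
set_option backward.isDefEq.respectTransparency.types false
set_option synthInstance.maxHeartbeats 400000
set_option maxHeartbeats 1600000
universe u

namespace Groth.Agent.Helper7.ElemDev

open TensorProduct Groth.Agent.Lead.FlatLoc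

theorem S1250_main {R S : Type u} [CommRing R] [CommRing S] [Algebra R S]
    (N : Type u) [AddCommGroup N] [Module S N] [Module R N] [IsScalarTower R S N]
    (p : Ideal R) [p.IsPrime] (q : Ideal S) [q.IsPrime] (n : ℕ)
    (E : FlatCA.ElemDevissage R S N p q n) :
    [FlatCA.FlatAt R q N, FlatCA.FlatAt E.R' E.z E.G, FlatCA.FlatAt E.R' E.y E.G].TFAE ∧
    [∃ g : S, g ∉ q ∧ Module.Flat R (LocalizedModule (Submonoid.powers g) N),
     ∃ g : E.C, g ∉ E.z ∧ Module.Flat E.R' (LocalizedModule (Submonoid.powers g) E.G),
     ∃ g : E.D, g ∉ E.y ∧ Module.Flat E.R' (LocalizedModule (Submonoid.powers g) E.G)].TFAE := by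
  classical
  obtain ⟨hetS, hq'q, -⟩ := E.etaleS
  obtain ⟨hetR, hp'p, -⟩ := E.etaleR
  haveI := hetS
  haveI := hetR
  haveI := hq'q
  haveI : Module.Finite E.D E.C := E.finiteDC
  letI mSG : Module S E.G := Module.compHom E.G (algebraMap S E.S')
  haveI tSS'G : IsScalarTower S E.S' E.G := IsScalarTower.of_algebraMap_smul fun s x => rfl
  letI mRG : Module R E.G := Module.compHom E.G (algebraMap R E.R')
  haveI tRR'G : IsScalarTower R E.R' E.G := IsScalarTower.of_algebraMap_smul fun s x => rfl
  haveI tR'S'G : IsScalarTower E.R' E.S' E.G := IsScalarTower.of_algebraMap_smul fun a x => by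
    rw [← algebraMap_smul E.C (algebraMap E.R' E.S' a) x,
      ← IsScalarTower.algebraMap_apply E.R' E.S' E.C, algebraMap_smul]
  haveI tRS'G : IsScalarTower R E.S' E.G := IsScalarTower.of_algebraMap_smul fun a x => by
    show algebraMap R E.S' a • x = algebraMap R E.R' a • x
    rw [IsScalarTower.algebraMap_apply R E.R' E.S', algebraMap_smul]
  haveI tRSG : IsScalarTower R S E.G := IsScalarTower.of_algebraMap_smul fun a x => by
    show algebraMap S E.S' (algebraMap R S a) • x = algebraMap R E.R' a • x
    rw [← IsScalarTower.algebraMap_apply R S E.S', IsScalarTower.algebraMap_apply R E.R' E.S',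
      algebraMap_smul]
  let f' : N →ₗ[S] E.G := (E.iso.restrictScalars S).toLinearMap.comp E.f
  have hf' : IsBaseChange E.S' f' :=
    (IsBaseChange.iff_of_equiv_comm (LinearEquiv.refl S N) E.iso
      (LinearMap.ext fun x => rfl)).mp E.isBaseChange
  have key : ∀ (r : Ideal S) [r.IsPrime] (r' : Ideal E.S') [r'.IsPrime] [r'.LiesOver r],
      Module.Flat R (LocalizedModule r.primeCompl N) ↔
        Module.Flat R (LocalizedModule r'.primeCompl E.G) :=
    fun r _ r' _ _ => flat_localized_iff_of_isBaseChange (R := R) f' hf' r r'
  have et : ∀ (T : Submonoid E.S'), Module.Flat R (LocalizedModule T E.G) ↔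
      Module.Flat E.R' (LocalizedModule T E.G) := by
    intro T
    constructor
    · intro h
      exact flat_of_flat_of_unramified (R := R) (R' := E.R') _
    · intro h
      exact Module.Flat.trans R E.R' _
  have hzq' : E.z.comap (algebraMap E.S' E.C) = E.q' := (E.zOver.over).symm
  have hzy : E.z.comap (algebraMap E.D E.C) = E.y := (E.zOverY.over).symm
  have hq'q' : E.q'.comap (algebraMap S E.S') = q := hq'q.over.symm
  have le_z_of_S' : ∀ (r : Ideal E.C), r.comap (algebraMap E.S' E.C) ≤ E.q' → r ≤ E.z := by
    intro r hr c hc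
    obtain ⟨s, rfl⟩ := E.surjC c
    have h1 : s ∈ E.q' := hr hc
    rw [← hzq'] at h1
    exact h1
  have le_z_of_D : ∀ (r : Ideal E.C), r.comap (algebraMap E.D E.C) ≤ E.y → r ≤ E.z :=
    fun r hr => le_of_comap_le E.y E.z E.uniq r hr
  have flat_of_le_z : Module.Flat E.R' (LocalizedModule E.z.primeCompl E.G) →
      ∀ (r : Ideal E.C) [r.IsPrime], r ≤ E.z →
        Module.Flat E.R' (LocalizedModule r.primeCompl E.G) := by
    intro h r _ hr
    haveI := h
    exact flat_localizedModule_prime_of_le (A := E.R') E.G E.z.primeCompl r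
      (fun x hx hxr => hx (hr hxr))
  have T1 : [FlatCA.FlatAt R q N, FlatCA.FlatAt E.R' E.z E.G, FlatCA.FlatAt E.R' E.y E.G].TFAE := by
    tfae_have 1 → 2 := by
      intro h
      have h1 : Module.Flat R (LocalizedModule E.q'.primeCompl E.G) := (key q E.q').mp h
      have h2 : Module.Flat E.R' (LocalizedModule E.q'.primeCompl E.G) := (et _).mp h1
      exact (flat_localizedModule_iff_forall_prime (A := E.R') (B := E.S') (C := E.C) E.G
        E.q').mp h2 E.z hzq'.le
    tfae_have 2 → 1 := by
      intro h
      have h2 : Module.Flat E.R' (LocalizedModule E.q'.primeCompl E.G) :=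
        (flat_localizedModule_iff_forall_prime (A := E.R') (B := E.S') (C := E.C) E.G E.q').mpr
          (fun r _ hr => flat_of_le_z h r (le_z_of_S' r hr))
      exact (key q E.q').mpr ((et _).mpr h2)
    tfae_have 2 → 3 := by
      intro h
      exact (flat_localizedModule_iff_forall_prime (A := E.R') (B := E.D) (C := E.C) E.G E.y).mpr
        (fun r _ hr => flat_of_le_z h r (le_z_of_D r hr))
    tfae_have 3 → 2 := by
      intro h
      exact (flat_localizedModule_iff_forall_prime (A := E.R') (B := E.D) (C := E.C) E.G
        E.y).mp h E.z hzy.le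
    tfae_finish
  have T2 : [∃ g : S, g ∉ q ∧ Module.Flat R (LocalizedModule (Submonoid.powers g) N),
      ∃ g : E.C, g ∉ E.z ∧ Module.Flat E.R' (LocalizedModule (Submonoid.powers g) E.G),
      ∃ g : E.D, g ∉ E.y ∧ Module.Flat E.R' (LocalizedModule (Submonoid.powers g) E.G)].TFAE := by
    tfae_have 1 → 2 := by
      rintro ⟨g, hgq, hflat⟩
      haveI := hflat
      refine ⟨algebraMap E.S' E.C (algebraMap S E.S' g), ?_, ?_⟩
      · intro hmem
        have h1 : algebraMap S E.S' g ∈ E.q' := by rw [← hzq']; exact hmem
        have h2 : g ∈ q := by rw [← hq'q']; exact h1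
        exact hgq h2
      · apply flat_localizedModule_of_forall_prime (A := E.R') (C := E.C) E.G
        intro r _ hdisj
        have hcr : algebraMap E.S' E.C (algebraMap S E.S' g) ∉ r := fun hmem =>
          Set.disjoint_left.mp hdisj hmem (Submonoid.mem_powers _)
        haveI hr'prime : (r.comap (algebraMap E.S' E.C)).IsPrime := inferInstance
        haveI hr''prime : ((r.comap (algebraMap E.S' E.C)).under S).IsPrime := inferInstance
        haveI : (r.comap (algebraMap E.S' E.C)).LiesOver ((r.comap (algebraMap E.S' E.C)).under S) :=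
          ⟨rfl⟩
        have hgr'' : g ∉ (r.comap (algebraMap E.S' E.C)).under S := fun hmem => hcr hmem
        haveI : Module.Flat R
            (LocalizedModule ((r.comap (algebraMap E.S' E.C)).under S).primeCompl N) :=
          flat_localizedModule_prime_of_le (A := R) N (Submonoid.powers g)
            ((r.comap (algebraMap E.S' E.C)).under S)
            (by
              intro x hx hmem
              obtain ⟨k, rfl⟩ := (Submonoid.mem_powers_iff _ _).mp hx
              exact hgr'' (Ideal.IsPrime.mem_of_pow_mem inferInstance k hmem))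
        have h1 : Module.Flat R
            (LocalizedModule (r.comap (algebraMap E.S' E.C)).primeCompl E.G) :=
          (key ((r.comap (algebraMap E.S' E.C)).under S)
            (r.comap (algebraMap E.S' E.C))).mp inferInstance
        have h2 : Module.Flat E.R'
            (LocalizedModule (r.comap (algebraMap E.S' E.C)).primeCompl E.G) := (et _).mp h1
        exact (flat_localizedModule_iff_forall_prime (A := E.R') (B := E.S') (C := E.C) E.G
          (r.comap (algebraMap E.S' E.C))).mp h2 r le_rfl
    tfae_have 2 → 1 := by
      rintro ⟨c, hcz, hflat⟩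
      haveI := hflat
      obtain ⟨c', rfl⟩ := E.surjC c
      have hc'q' : c' ∉ E.q' := fun hmem => hcz (by rw [← hzq'] at hmem; exact hmem)
      have hopen : IsOpenMap (PrimeSpectrum.comap (algebraMap S E.S')) :=
        PrimeSpectrum.isOpenMap_comap_of_hasGoingDown_of_finitePresentation
      have hU : IsOpen ((PrimeSpectrum.comap (algebraMap S E.S')) ''
          (PrimeSpectrum.basicOpen c' : Set (PrimeSpectrum E.S'))) :=
        hopen _ (PrimeSpectrum.basicOpen c').isOpen
      have hqU : (⟨q, inferInstance⟩ : PrimeSpectrum S) ∈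
          (PrimeSpectrum.comap (algebraMap S E.S')) ''
            (PrimeSpectrum.basicOpen c' : Set (PrimeSpectrum E.S')) :=
        ⟨⟨E.q', inferInstance⟩, hc'q', PrimeSpectrum.ext hq'q'⟩
      obtain ⟨_, ⟨g, rfl⟩, hqg, hgU⟩ :=
        PrimeSpectrum.isTopologicalBasis_basic_opens.exists_subset_of_mem_open hqU hU
      refine ⟨g, hqg, ?_⟩
      apply flat_localizedModule_of_forall_prime (A := R) (C := S) N
      intro r'' _ hdisj
      have hgr'' : g ∉ r'' := fun hmem =>
        Set.disjoint_left.mp hdisj hmem (Submonoid.mem_powers _)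
      obtain ⟨⟨r', hr'⟩, hc'r', hr'r''⟩ :=
        hgU (show (⟨r'', inferInstance⟩ : PrimeSpectrum S) ∈
          (PrimeSpectrum.basicOpen g : Set (PrimeSpectrum S)) from hgr'')
      haveI := hr'
      have hover : r'.comap (algebraMap S E.S') = r'' := congrArg PrimeSpectrum.asIdeal hr'r''
      haveI : r'.LiesOver r'' := ⟨hover.symm⟩
      have h2 : Module.Flat E.R' (LocalizedModule r'.primeCompl E.G) :=
        (flat_localizedModule_iff_forall_prime (A := E.R') (B := E.S') (C := E.C) E.G r').mpr
          (fun r₂ _ hr₂ => flat_localizedModule_prime_of_le (A := E.R') E.G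
            (Submonoid.powers (algebraMap E.S' E.C c')) r₂
            (by
              intro x hx hmem
              obtain ⟨k, rfl⟩ := (Submonoid.mem_powers_iff _ _).mp hx
              have h3 : algebraMap E.S' E.C c' ∈ r₂ :=
                Ideal.IsPrime.mem_of_pow_mem inferInstance k hmem
              exact hc'r' (hr₂ h3)))
      exact (key r'' r').mpr ((et _).mpr h2)
    tfae_have 2 → 3 := by
      rintro ⟨c, hcz, hflat⟩
      haveI := hflat
      have hJ : ¬ (Ideal.span {c}).comap (algebraMap E.D E.C) ≤ E.y := fun hle =>
        hcz (le_z_of_D _ hle (Ideal.subset_span (Set.mem_singleton c)))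
      obtain ⟨d, hdJ, hdy⟩ := SetLike.not_le_iff_exists.mp hJ
      obtain ⟨c', hc'⟩ := Ideal.mem_span_singleton'.mp hdJ
      refine ⟨d, hdy, ?_⟩
      haveI : Module.Flat E.R'
          (LocalizedModule (Algebra.algebraMapSubmonoid E.C (Submonoid.powers d)) E.G) := by
        apply flat_localizedModule_of_forall_prime (A := E.R') (C := E.C) E.G
        intro r _ hdisj
        have hdr : algebraMap E.D E.C d ∉ r := fun hmem =>
          Set.disjoint_left.mp hdisj hmem
            (Algebra.mem_algebraMapSubmonoid_of_mem ⟨d, Submonoid.mem_powers d⟩)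
        have hcr : c ∉ r := fun hmem => hdr (by rw [← hc']; exact Ideal.mul_mem_left _ _ hmem)
        exact flat_localizedModule_prime_of_le (A := E.R') E.G (Submonoid.powers c) r
          (by
            intro x hx hmem
            obtain ⟨k, rfl⟩ := (Submonoid.mem_powers_iff _ _).mp hx
            exact hcr (Ideal.IsPrime.mem_of_pow_mem inferInstance k hmem))
      exact Module.Flat.of_linearEquiv
        (localizedModuleEquivMap (A := E.R') (B := E.D) (C := E.C) E.G (Submonoid.powers d))
    tfae_have 3 → 2 := by
      rintro ⟨d, hdy, hflat⟩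
      haveI := hflat
      have hcz : algebraMap E.D E.C d ∉ E.z := fun hmem => hdy (by rw [← hzy]; exact hmem)
      refine ⟨algebraMap E.D E.C d, hcz, ?_⟩
      haveI : Module.Flat E.R'
          (LocalizedModule (Algebra.algebraMapSubmonoid E.C (Submonoid.powers d)) E.G) :=
        Module.Flat.of_linearEquiv
          (localizedModuleEquivMap (A := E.R') (B := E.D) (C := E.C) E.G
            (Submonoid.powers d)).symm
      apply flat_localizedModule_of_forall_prime (A := E.R') (C := E.C) E.G
      intro r _ hdisj
      have hdr : algebraMap E.D E.C d ∉ r := fun hmem =>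
        Set.disjoint_left.mp hdisj hmem (Submonoid.mem_powers _)
      exact flat_localizedModule_prime_of_le (A := E.R') E.G
        (Algebra.algebraMapSubmonoid E.C (Submonoid.powers d)) r
        (by
          intro x hx hmem
          obtain ⟨x', hx', rfl⟩ := Submonoid.mem_map.mp hx
          obtain ⟨k, rfl⟩ := (Submonoid.mem_powers_iff _ _).mp hx'
          rw [map_pow] at hmem
          exact hdr (Ideal.IsPrime.mem_of_pow_mem inferInstance k hmem))
    tfae_finish
  exact ⟨T1, T2⟩

end Groth.Agent.Helper7.ElemDev
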