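import Mathlib
import Groth.Prelude.Def_FlatCA
import Groth.Agent.Lib.Helper7.ElemDev.Flat
import Groth.Agent.Lib.Helper7.ElemDev.FP

/-!
# Finite presentation along an elementary dévissage (helper7)
-/

set_option linter.style.haveILetI false
set_option linter.unusedVariables false
set_option linter.unusedSectionVars false
set_option autoImplicit false
set_option backward.isDefEq.respectTransparency.types false
set_option synthInstance.maxHeartbeats 400000
set_option maxHeartbeats 1600000
universe u

namespace Groth.Agent.Helper7.ElemDev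

open TensorProduct

theorem S1251_main {R S : Type u} [CommRing R] [CommRing S] [Algebra R S]
    [Algebra.FinitePresentation R S]
    (N : Type u) [AddCommGroup N] [Module S N]
    (p : Ideal R) [p.IsPrime] (q : Ideal S) [q.IsPrime] (n : ℕ)
    (E : FlatCA.ElemDevissage R S N p q n) :
    Algebra.FinitePresentation E.D E.C ∧
    [Module.FinitePresentation (Localization.AtPrime q) (LocalizedModule q.primeCompl N),
     Module.FinitePresentation (Localization.AtPrime E.z) (LocalizedModule E.z.primeCompl E.G),
     Module.FinitePresentation (Localization.AtPrime E.y)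
       (LocalizedModule E.y.primeCompl E.G)].TFAE ∧
    [∃ g : S, g ∉ q ∧ Module.FinitePresentation (Localization.Away g)
        (LocalizedModule (Submonoid.powers g) N),
     ∃ g : E.C, g ∉ E.z ∧ Module.FinitePresentation (Localization.Away g)
        (LocalizedModule (Submonoid.powers g) E.G),
     ∃ g : E.D, g ∉ E.y ∧ Module.FinitePresentation (Localization.Away g)
        (LocalizedModule (Submonoid.powers g) E.G)].TFAE := by
  classical
  obtain ⟨hetS, hq'q, -⟩ := E.etaleS
  obtain ⟨hetR, hp'p, -⟩ := E.etaleR
  haveI := hetS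
  haveI := hetR
  haveI := hq'q
  haveI : Module.Finite E.D E.C := E.finiteDC
  haveI : Algebra.FinitePresentation E.S' E.C := E.fpC
  haveI fpRS' : Algebra.FinitePresentation R E.S' := Algebra.FinitePresentation.trans R S E.S'
  haveI fpR'S' : Algebra.FinitePresentation E.R' E.S' :=
    Algebra.FinitePresentation.of_restrict_scalars_finitePresentation R E.R' E.S'
  haveI fpR'C : Algebra.FinitePresentation E.R' E.C :=
    Algebra.FinitePresentation.trans E.R' E.S' E.C
  haveI fpR'D : Algebra.FinitePresentation E.R' E.D := by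
    haveI hsm : AlgebraicGeometry.SmoothOfRelativeDimension n
        (AlgebraicGeometry.Spec.map (CommRingCat.ofHom (algebraMap E.R' E.D))) := E.smooth
    haveI : AlgebraicGeometry.Smooth
        (AlgebraicGeometry.Spec.map (CommRingCat.ofHom (algebraMap E.R' E.D))) :=
      AlgebraicGeometry.SmoothOfRelativeDimension.smooth n _
    have h := (AlgebraicGeometry.LocallyOfFinitePresentation.SpecMap_iff
      (CommRingCat.ofHom (algebraMap E.R' E.D))).mp inferInstance
    exact RingHom.finitePresentation_algebraMap.mp h
  haveI fpDC : Algebra.FinitePresentation E.D E.C :=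
    Algebra.FinitePresentation.of_restrict_scalars_finitePresentation E.R' E.D E.C
  haveI mfpDC : Module.FinitePresentation E.D E.C :=
    Module.FinitePresentation.of_finite_of_finitePresentation E.D E.C
  haveI mfpS'C : Module.FinitePresentation E.S' E.C := by
    apply Module.finitePresentation_of_surjective (Algebra.linearMap E.S' E.C) E.surjC
    have h := Algebra.FinitePresentation.ker_fG_of_surjective (Algebra.ofId E.S' E.C) E.surjC
    have e : LinearMap.ker (Algebra.linearMap E.S' E.C) =
        RingHom.ker (Algebra.ofId E.S' E.C).toRingHom := by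
      ext x; rfl
    rw [e]
    exact h
  letI mSG : Module S E.G := Module.compHom E.G (algebraMap S E.S')
  haveI tSS'G : IsScalarTower S E.S' E.G := IsScalarTower.of_algebraMap_smul fun s x => rfl
  let f' : N →ₗ[S] E.G := (E.iso.restrictScalars S).toLinearMap.comp E.f
  have hf' : IsBaseChange E.S' f' :=
    (IsBaseChange.iff_of_equiv_comm (LinearEquiv.refl S N) E.iso
      (LinearMap.ext fun x => rfl)).mp E.isBaseChange
  have hzq' : E.z.comap (algebraMap E.S' E.C) = E.q' := (E.zOver.over).symm
  have hzy : E.z.comap (algebraMap E.D E.C) = E.y := (E.zOverY.over).symm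
  have hq'q' : E.q'.comap (algebraMap S E.S') = q := hq'q.over.symm
  have exists_d : ∀ c : E.C, c ∉ E.z →
      ∃ d : E.D, d ∉ E.y ∧ ∃ c' : E.C, c' * c = algebraMap E.D E.C d := by
    intro c hcz
    have hJ : ¬ (Ideal.span {c}).comap (algebraMap E.D E.C) ≤ E.y := fun hle =>
      hcz (le_of_comap_le E.y E.z E.uniq _ hle (Ideal.subset_span (Set.mem_singleton c)))
    obtain ⟨d, hdJ, hdy⟩ := SetLike.not_le_iff_exists.mp hJ
    obtain ⟨c', hc'⟩ := Ideal.mem_span_singleton'.mp hdJ
    exact ⟨d, hdy, c', hc'⟩
  -- transfers at the primes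
  have bcQ := fp_localized_bc f' hf' q.primeCompl E.q'.primeCompl (by
    intro t ht
    exact IsLocalization.map_units (Localization.AtPrime E.q')
      (⟨algebraMap S E.S' t, fun hmem => ht (by rw [← hq'q']; exact hmem)⟩ : E.q'.primeCompl))
  have hsurjQ : ∀ (r : Ideal S) [r.IsPrime], Disjoint (q.primeCompl : Set S) (r : Set S) →
      ∃ r' : Ideal E.S', r'.IsPrime ∧ Disjoint (E.q'.primeCompl : Set E.S') (r' : Set E.S') ∧
        r'.under S = r := by
    intro r _ hdisj
    have hrq : r ≤ q := fun x hx => by
      by_contra hxq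
      exact Set.disjoint_left.mp hdisj hxq hx
    obtain ⟨P, hPQ, hPprime, hPover⟩ := Ideal.exists_ideal_le_liesOver_of_le E.q' hrq
    exact ⟨P, hPprime, Set.disjoint_left.mpr fun x hx hxP => hx (hPQ hxP), hPover.over.symm⟩
  have lcS'z := fp_localized_iff_restrictScalars (A := E.S') (B := E.C) E.G
    E.q'.primeCompl E.z.primeCompl
    (fun t ht hmem => ht (by rw [← hzq']; exact hmem))
    (by
      intro t' ht'
      obtain ⟨s, rfl⟩ := E.surjC t'
      exact ⟨1, s, fun hmem => ht' (by rw [← hzq'] at hmem; exact hmem), mul_one _⟩)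
  have lcDz := fp_localized_iff_restrictScalars (A := E.D) (B := E.C) E.G
    E.y.primeCompl E.z.primeCompl
    (fun t ht hmem => ht (by rw [← hzy]; exact hmem))
    (by
      intro t' ht'
      obtain ⟨d, hdy, c', hc'⟩ := exists_d t' ht'
      exact ⟨c', d, hdy, by rw [mul_comm]; exact hc'⟩)
  have T1 : [Module.FinitePresentation (Localization.AtPrime q) (LocalizedModule q.primeCompl N),
      Module.FinitePresentation (Localization.AtPrime E.z) (LocalizedModule E.z.primeCompl E.G),
      Module.FinitePresentation (Localization.AtPrime E.y)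
        (LocalizedModule E.y.primeCompl E.G)].TFAE := by
    tfae_have 1 → 2 := fun h => lcS'z.mpr (bcQ.1 h)
    tfae_have 2 → 1 := fun h => bcQ.2 inferInstance hsurjQ (lcS'z.mp h)
    tfae_have 2 → 3 := fun h => lcDz.mp h
    tfae_have 3 → 2 := fun h => lcDz.mpr h
    tfae_finish
  have T2 : [∃ g : S, g ∉ q ∧ Module.FinitePresentation (Localization.Away g)
        (LocalizedModule (Submonoid.powers g) N),
      ∃ g : E.C, g ∉ E.z ∧ Module.FinitePresentation (Localization.Away g)
        (LocalizedModule (Submonoid.powers g) E.G),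
      ∃ g : E.D, g ∉ E.y ∧ Module.FinitePresentation (Localization.Away g)
        (LocalizedModule (Submonoid.powers g) E.G)].TFAE := by
    tfae_have 1 → 2 := by
      rintro ⟨g, hgq, h⟩
      have hcz : algebraMap E.S' E.C (algebraMap S E.S' g) ∉ E.z := by
        intro hmem
        have h1 : algebraMap S E.S' g ∈ E.q' := by rw [← hzq']; exact hmem
        have h2 : g ∈ q := by rw [← hq'q']; exact h1
        exact hgq h2
      refine ⟨algebraMap E.S' E.C (algebraMap S E.S' g), hcz, ?_⟩
      have bc := fp_localized_bc f' hf' (Submonoid.powers g)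
        (Submonoid.powers (algebraMap S E.S' g)) (by
          intro t ht
          obtain ⟨k, rfl⟩ := (Submonoid.mem_powers_iff _ _).mp ht
          rw [map_pow]
          exact IsLocalization.map_units _
            (⟨algebraMap S E.S' g ^ k, ⟨k, rfl⟩⟩ : Submonoid.powers (algebraMap S E.S' g)))
      have h1 : FPAt E.S' (Submonoid.powers (algebraMap S E.S' g)) E.G := bc.1 h
      have lc := fp_localized_iff_restrictScalars (A := E.S') (B := E.C) E.G
        (Submonoid.powers (algebraMap S E.S' g))
        (Submonoid.powers (algebraMap E.S' E.C (algebraMap S E.S' g)))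
        (by
          intro t ht
          obtain ⟨k, rfl⟩ := (Submonoid.mem_powers_iff _ _).mp ht
          exact (Submonoid.mem_powers_iff _ _).mpr ⟨k, (map_pow _ _ _).symm⟩)
        (by
          intro t' ht'
          obtain ⟨k, rfl⟩ := (Submonoid.mem_powers_iff _ _).mp ht'
          exact ⟨1, algebraMap S E.S' g ^ k, ⟨k, rfl⟩, by rw [mul_one, map_pow]⟩)
      exact lc.mpr h1
    tfae_have 2 → 1 := by
      rintro ⟨c, hcz, h⟩
      obtain ⟨c', rfl⟩ := E.surjC c
      have hc'q' : c' ∉ E.q' := fun hmem => hcz (by rw [← hzq'] at hmem; exact hmem)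
      have lc := fp_localized_iff_restrictScalars (A := E.S') (B := E.C) E.G
        (Submonoid.powers c') (Submonoid.powers (algebraMap E.S' E.C c'))
        (by
          intro t ht
          obtain ⟨k, rfl⟩ := (Submonoid.mem_powers_iff _ _).mp ht
          exact (Submonoid.mem_powers_iff _ _).mpr ⟨k, (map_pow _ _ _).symm⟩)
        (by
          intro t' ht'
          obtain ⟨k, rfl⟩ := (Submonoid.mem_powers_iff _ _).mp ht'
          exact ⟨1, c' ^ k, ⟨k, rfl⟩, by rw [mul_one, map_pow]⟩)
      have h1 : FPAt E.S' (Submonoid.powers c') E.G := lc.mp h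
      have hopen : IsOpenMap (PrimeSpectrum.comap (algebraMap S E.S')) :=
        PrimeSpectrum.isOpenMap_comap_of_hasGoingDown_of_finitePresentation
      have hU : IsOpen ((PrimeSpectrum.comap (algebraMap S E.S')) ''
          (PrimeSpectrum.basicOpen c' : Set (PrimeSpectrum E.S'))) :=
        hopen _ (PrimeSpectrum.basicOpen c').isOpen
      have hqU : (⟨q, inferInstance⟩ : PrimeSpectrum S) ∈
          (PrimeSpectrum.comap (algebraMap S E.S')) ''
            (PrimeSpectrum.basicOpen c' : Set (PrimeSpectrum E.S')) :=
        ⟨⟨E.q', inferInstance⟩, hc'q', PrimeSpectrum.ext hq'q'⟩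
      obtain ⟨_, ⟨g, rfl⟩, hqg, hgU⟩ :=
        PrimeSpectrum.isTopologicalBasis_basic_opens.exists_subset_of_mem_open hqU hU
      refine ⟨g, hqg, ?_⟩
      have h2 : FPAt E.S' (Submonoid.powers (algebraMap S E.S' g * c')) E.G :=
        fp_localized_further E.G (Submonoid.powers c')
          (Submonoid.powers (algebraMap S E.S' g * c'))
          (by
            intro t ht
            obtain ⟨k, rfl⟩ := (Submonoid.mem_powers_iff _ _).mp ht
            exact ⟨algebraMap S E.S' g ^ k,
              (Submonoid.mem_powers_iff _ _).mpr ⟨k, by rw [mul_pow, mul_comm]⟩⟩) h1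
      have bc := fp_localized_bc f' hf' (Submonoid.powers g)
        (Submonoid.powers (algebraMap S E.S' g * c')) (by
          intro t ht
          obtain ⟨k, rfl⟩ := (Submonoid.mem_powers_iff _ _).mp ht
          have hu : IsUnit (algebraMap E.S'
              (Localization (Submonoid.powers (algebraMap S E.S' g * c')))
              ((algebraMap S E.S' g * c') ^ k)) :=
            IsLocalization.map_units _ (⟨(algebraMap S E.S' g * c') ^ k, ⟨k, rfl⟩⟩ :
              Submonoid.powers (algebraMap S E.S' g * c'))
          rw [mul_pow, map_mul] at hu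
          rw [map_pow]
          exact isUnit_of_mul_isUnit_left hu)
      refine bc.2 inferInstance ?_ h2
      intro r _ hdisj
      have hgr : g ∉ r := fun hmem =>
        Set.disjoint_left.mp hdisj (Submonoid.mem_powers g) hmem
      obtain ⟨⟨r', hr'⟩, hc'r', hr'r⟩ :=
        hgU (show (⟨r, inferInstance⟩ : PrimeSpectrum S) ∈
          (PrimeSpectrum.basicOpen g : Set (PrimeSpectrum S)) from hgr)
      have hover : r'.comap (algebraMap S E.S') = r := congrArg PrimeSpectrum.asIdeal hr'r
      refine ⟨r', hr', ?_, hover⟩
      refine Set.disjoint_left.mpr fun x hx hxr' => ?_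
      obtain ⟨k, rfl⟩ := (Submonoid.mem_powers_iff _ _).mp hx
      have h3 : algebraMap S E.S' g * c' ∈ r' := Ideal.IsPrime.mem_of_pow_mem hr' k hxr'
      rcases Ideal.IsPrime.mem_or_mem hr' h3 with h4 | h4
      · exact hgr (by rw [← hover]; exact h4)
      · exact hc'r' h4
    tfae_have 2 → 3 := by
      rintro ⟨c, hcz, h⟩
      obtain ⟨d, hdy, c', hc'⟩ := exists_d c hcz
      have h1 : FPAt E.C (Submonoid.powers (algebraMap E.D E.C d)) E.G :=
        fp_localized_further E.G (Submonoid.powers c) (Submonoid.powers (algebraMap E.D E.C d))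
          (by
            intro t ht
            obtain ⟨k, rfl⟩ := (Submonoid.mem_powers_iff _ _).mp ht
            exact ⟨c' ^ k, (Submonoid.mem_powers_iff _ _).mpr
              ⟨k, by rw [← hc', mul_pow, mul_comm]⟩⟩) h
      have lc := fp_localized_iff_restrictScalars (A := E.D) (B := E.C) E.G
        (Submonoid.powers d) (Submonoid.powers (algebraMap E.D E.C d))
        (by
          intro t ht
          obtain ⟨k, rfl⟩ := (Submonoid.mem_powers_iff _ _).mp ht
          exact (Submonoid.mem_powers_iff _ _).mpr ⟨k, (map_pow _ _ _).symm⟩)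
        (by
          intro t' ht'
          obtain ⟨k, rfl⟩ := (Submonoid.mem_powers_iff _ _).mp ht'
          exact ⟨1, d ^ k, ⟨k, rfl⟩, by rw [mul_one, map_pow]⟩)
      exact ⟨d, hdy, lc.mp h1⟩
    tfae_have 3 → 2 := by
      rintro ⟨d, hdy, h⟩
      have hcz : algebraMap E.D E.C d ∉ E.z := fun hmem => hdy (by rw [← hzy]; exact hmem)
      have lc := fp_localized_iff_restrictScalars (A := E.D) (B := E.C) E.G
        (Submonoid.powers d) (Submonoid.powers (algebraMap E.D E.C d))
        (by
          intro t ht
          obtain ⟨k, rfl⟩ := (Submonoid.mem_powers_iff _ _).mp ht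
          exact (Submonoid.mem_powers_iff _ _).mpr ⟨k, (map_pow _ _ _).symm⟩)
        (by
          intro t' ht'
          obtain ⟨k, rfl⟩ := (Submonoid.mem_powers_iff _ _).mp ht'
          exact ⟨1, d ^ k, ⟨k, rfl⟩, by rw [mul_one, map_pow]⟩)
      exact ⟨algebraMap E.D E.C d, hcz, lc.mpr h⟩
    tfae_finish
  exact ⟨fpDC, T1, T2⟩

end Groth.Agent.Helper7.ElemDev
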